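import Cfsg.Agent.Lib.McKaySL2.Count
import Cfsg.Agent.Lib.RankOne.SLElliptic
import Cfsg.Agent.Lib.SL2.Facts
import Cfsg.Agent.Lib.SL2.Dickson

/-!
The normaliser of a Sylow `p`-subgroup of `SL₂(q)` in defining characteristic.
-/

set_option autoImplicit false
set_option linter.unusedSectionVars false

namespace CfsgLib.McKaySL2

open Cfsg CfsgLib.RankOne.SLTwo
open scoped MatrixGroups

universe u

variable {F : Type u} [Field F] [Fintype F] [DecidableEq F]

local notation "G" => Matrix.SpecialLinearGroup (Fin 2) F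

theorem tri_ext {a c : Fˣ} {b d : F} (h : (tri a b : G) = tri c d) : a = c ∧ b = d := by
  have h00 := congrFun (congrFun (congrArg Subtype.val h) 0) 0
  have h01 := congrFun (congrFun (congrArg Subtype.val h) 0) 1
  rw [tri_coe, tri_coe] at h00 h01
  exact ⟨Units.ext (by simpa using h00), by simpa using h01⟩

theorem tri_conj_eq (a c : Fˣ) (b d : F) :
    (tri c d : G) * tri a b * (tri c d)⁻¹ =
      tri a ((c : F) ^ 2 * b + (c : F) * d * (((a⁻¹ : Fˣ) : F) - (a : F))) := by
  rw [mul_inv_eq_iff_eq_mul]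
  apply Subtype.ext
  rw [Matrix.SpecialLinearGroup.coe_mul, Matrix.SpecialLinearGroup.coe_mul, tri_coe, tri_coe, tri_coe]
  ext i j
  fin_cases i <;> fin_cases j <;> simp [Matrix.mul_apply, Fin.sum_univ_two]
  · ring
  · field_simp
    ring
  · ring

theorem isConj_bor_iff {a c : Fˣ} {b d : F} :
    IsConj (⟨tri a b, tri_mem a b⟩ : Bor F) ⟨tri c d, tri_mem c d⟩ ↔
      a = c ∧ ∃ (e : Fˣ) (f : F), d = (e : F) ^ 2 * b + (e : F) * f * (((a⁻¹ : Fˣ) : F) - (a : F)) := by
  constructor
  · intro h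
    obtain ⟨⟨g, hg⟩, hk⟩ := isConj_iff.1 h
    obtain ⟨e, f, rfl⟩ := exists_tri (mem_bor.1 hg)
    have h' : (tri e f : G) * tri a b * (tri e f)⁻¹ = tri c d := congrArg Subtype.val hk
    rw [tri_conj_eq] at h'
    obtain ⟨h1, h2⟩ := tri_ext h'
    exact ⟨h1, e, f, h2.symm⟩
  · rintro ⟨rfl, e, f, rfl⟩
    exact isConj_iff.2 ⟨⟨tri e f, tri_mem e f⟩, Subtype.ext (tri_conj_eq a e b f)⟩

theorem card_classes_bor (h2c : ringChar F ≠ 2) :
    Nat.card (ConjClasses (Bor F)) = Fintype.card F + 3 := by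
  classical
  have h2 : (2 : F) ≠ 0 := Ring.two_ne_zero h2c
  obtain ⟨ν, hν0, hν, hd⟩ := CfsgLib.SL2.exists_nonsquare_dichotomy (F := F) h2c
  let sg : Bool → Fˣ := fun s => if s then 1 else -1
  let kd : Bool → F := fun s => if s then 1 else ν
  let f : Fˣ ⊕ Bool × Bool → ConjClasses (Bor F) := fun p => match p with
    | .inl a => ConjClasses.mk ⟨tri a 0, tri_mem a 0⟩
    | .inr p => ConjClasses.mk ⟨tri (sg p.1) (kd p.2), tri_mem _ _⟩
  have hsg : ∀ s, (((sg s)⁻¹ : Fˣ) : F) - (sg s : F) = 0 := by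
    intro s
    cases s <;> simp [sg]
  have hsi : Function.Injective sg := by
    intro s t h
    have h' := congrArg Units.val h
    cases s <;> cases t <;> first | rfl | (simp [sg] at h'; exact absurd (by linear_combination h') h2) |
      (simp [sg] at h'; exact absurd (by linear_combination -h') h2)
  have hk0 : ∀ s, kd s ≠ 0 := by
    intro s
    cases s <;> simp [kd, hν0]
  have hbij : Function.Bijective f := by
    refine ⟨?_, fun C => ?_⟩
    · rintro (a | ⟨s, r⟩) (c | ⟨t, w⟩) h <;>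
        obtain ⟨h1, e, g, hd'⟩ := isConj_bor_iff.1 (ConjClasses.mk_eq_mk_iff_isConj.1 h)
      · rw [h1]
      · exfalso
        subst h1
        rw [hsg, mul_zero, mul_zero, add_zero] at hd'
        exact hk0 w hd'
      · exfalso
        rw [hsg, mul_zero, add_zero] at hd'
        exact mul_ne_zero (pow_ne_zero 2 e.ne_zero) (hk0 r) hd'.symm
      · obtain rfl := hsi h1
        rw [hsg, mul_zero, add_zero] at hd'
        cases r <;> cases w <;> simp [kd] at hd'
        · rfl
        · refine absurd ⟨((e : F))⁻¹, ?_⟩ hν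
          have he := e.ne_zero
          field_simp
          linear_combination -hd'
        · exact absurd ⟨(e : F), by rw [hd']; ring⟩ hν
        · rfl
    · obtain ⟨⟨g, hg⟩, rfl⟩ := ConjClasses.exists_rep C
      obtain ⟨a, b, rfl⟩ := exists_tri (mem_bor.1 hg)
      by_cases hb : b = 0
      · exact ⟨.inl a, by subst hb; rfl⟩
      by_cases ha : ((a⁻¹ : Fˣ) : F) - (a : F) = 0
      · have hs : ∃ s, sg s = a := by
          have : (a : F) * a = 1 := by
            have h := sub_eq_zero.1 ha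
            nth_rewrite 1 [← h]
            exact Units.inv_mul a
          rcases mul_self_eq_one_iff.1 this with h | h
          · exact ⟨true, Units.ext (by simp [sg, h])⟩
          · exact ⟨false, Units.ext (by simp [sg, h])⟩
        obtain ⟨s, rfl⟩ := hs
        rcases hd b hb with ⟨r, hr⟩ | ⟨r, hr⟩
        · refine ⟨.inr (s, true), ConjClasses.mk_eq_mk_iff_isConj.2 (isConj_bor_iff.2 ⟨rfl,
            Units.mk0 r (fun h => hb (by rw [hr, h, mul_zero])), 0, ?_⟩)⟩
          simp [kd, hr]
          ring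
        · refine ⟨.inr (s, false), ConjClasses.mk_eq_mk_iff_isConj.2 (isConj_bor_iff.2 ⟨rfl,
            Units.mk0 (r / ν) (div_ne_zero (fun h => mul_ne_zero hb hν0 (by rw [hr, h, mul_zero])) hν0),
            0, ?_⟩)⟩
          simp [kd]
          field_simp
          linear_combination hr
      · refine ⟨.inl a, ConjClasses.mk_eq_mk_iff_isConj.2 (isConj_bor_iff.2 ⟨rfl, 1,
          b / (((a⁻¹ : Fˣ) : F) - (a : F)), ?_⟩)⟩
        rw [mul_zero, zero_add, Units.val_one, one_mul, div_mul_cancel₀ _ ha]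
  rw [← Nat.card_congr (Equiv.ofBijective f hbij), Nat.card_sum, Nat.card_prod, Nat.card_units]
  simp only [Nat.card_eq_fintype_card, Fintype.card_bool]
  have := Fintype.card_pos (α := F)
  omega

theorem uSL_conj_mem (a : Fˣ) (b t : F) :
    (tri a b : G) * tri 1 t * (tri a b)⁻¹ = tri 1 ((a : F) ^ 2 * t) := by
  rw [tri_conj_eq]
  simp

theorem pCount_sylow_char (p : ℕ) [hp : Fact p.Prime] [CharP F p] (h2c : ringChar F ≠ 2)
    (S : Sylow p G) :
    pCount p (Subgroup.normalizer ((S : Subgroup G) : Set G)) = Fintype.card F + 3 := by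
  obtain ⟨g, hg⟩ := CfsgLib.SL2.exists_conj_upperSL p S
  have hN : (Bor F).map (MulAut.conj g).toMonoidHom = Subgroup.normalizer ((S : Subgroup G) : Set G) := by
    have e : Subgroup.normalizer ((CfsgLib.SL2.upperHom (F := F)).range : Set G) = Bor F := by
      ext x
      constructor
      · intro hx
        rw [mem_bor]
        obtain ⟨s, hs⟩ := (Subgroup.mem_normalizer_iff.1 hx (CfsgLib.SL2.up 1)).1 ⟨_, rfl⟩
        have h := (CfsgLib.SL2.conj_up_entries x 1).1
        rw [← hs, CfsgLib.SL2.upperHom_coe] at h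
        simpa using h.symm
      · intro hx
        obtain ⟨a, b, rfl⟩ := exists_tri (mem_bor.1 hx)
        have key : ∀ (a : Fˣ) (b : F), ∀ y ∈ (CfsgLib.SL2.upperHom (F := F)).range,
            (tri a b : G) * y * (tri a b)⁻¹ ∈ (CfsgLib.SL2.upperHom (F := F)).range := by
          rintro a b _ ⟨t, rfl⟩
          refine ⟨Multiplicative.ofAdd ((a : F) ^ 2 * t.toAdd), ?_⟩
          show (uSL ((a : F) ^ 2 * t.toAdd) : G) = tri a b * uSL t.toAdd * (tri a b)⁻¹
          rw [← tri_one, ← tri_one, uSL_conj_mem]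
        rw [Subgroup.mem_normalizer_iff]
        refine fun y => ⟨key a b y, fun hy => ?_⟩
        have hinv : (tri a b : G)⁻¹ ∈ Bor F := inv_mem hx
        obtain ⟨c, d, hcd⟩ := exists_tri (mem_bor.1 hinv)
        have := key c d _ hy
        rw [← hcd] at this
        simpa [mul_assoc] using this
    rw [← e, hg]
    exact Subgroup.map_equiv_normalizer_eq _ _
  rw [← hN, ← pCount_congr ((Bor F).equivMapOfInjective _ (MulAut.conj g).injective),
    ← card_classes_bor h2c]
  let U : Subgroup (Bor F) := (CfsgLib.SL2.upperHom (F := F)).range.subgroupOf (Bor F)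
  have hUle : (CfsgLib.SL2.upperHom (F := F)).range ≤ Bor F := by
    rintro _ ⟨t, rfl⟩
    rw [mem_bor, CfsgLib.SL2.upperHom_coe]
    rfl
  haveI : U.Normal := ⟨by
    rintro ⟨y, hy'⟩ ⟨t, ht⟩ ⟨x, hx⟩
    have ht' : y = (uSL t.toAdd : G) := ht.symm
    obtain ⟨a, b, rfl⟩ := exists_tri (mem_bor.1 hx)
    refine ⟨Multiplicative.ofAdd ((a : F) ^ 2 * t.toAdd), ?_⟩
    show (uSL ((a : F) ^ 2 * t.toAdd) : G) = tri a b * y * (tri a b)⁻¹
    rw [ht', ← tri_one, ← tri_one, uSL_conj_mem]⟩
  refine pCount_eq_card_classes U ?_ ?_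
  · rintro ⟨x, ha⟩ ⟨s, hs⟩ ⟨y, hb⟩ ⟨t, ht⟩
    have hs' : x = CfsgLib.SL2.upperHom s := hs.symm
    have ht' : y = CfsgLib.SL2.upperHom t := ht.symm
    refine Subtype.ext ?_
    show x * y = y * x
    rw [hs', ht', ← map_mul, ← map_mul, mul_comm]
  · have hU : Nat.card U = Fintype.card F := by
      rw [Nat.card_congr (Subgroup.subgroupOfEquivOfLe hUle).toEquiv, ← Nat.card_congr
        (MonoidHom.ofInjective (CfsgLib.SL2.upperHom_injective (F := F))).toEquiv,
        Nat.card_congr Multiplicative.toAdd, Nat.card_eq_fintype_card]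
    have hB : Nat.card (Bor F) = (Fintype.card F - 1) * Fintype.card F := by
      rw [← Nat.card_congr borEquiv, Nat.card_prod, Nat.card_units, Nat.card_eq_fintype_card]
    have h := U.card_mul_index
    rw [hU, hB, mul_comm (Fintype.card F - 1)] at h
    rw [Nat.eq_of_mul_eq_mul_left Fintype.card_pos h]
    obtain ⟨n, -, hn⟩ := FiniteField.card F p
    intro hd
    have h1 : p ∣ Fintype.card F := hn ▸ dvd_pow_self p n.pos.ne'
    have := (Nat.dvd_sub h1 hd)
    rw [show Fintype.card F - (Fintype.card F - 1) = 1 by have := Fintype.card_pos (α := F); omega,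
      Nat.dvd_one] at this
    exact hp.out.one_lt.ne' this

end CfsgLib.McKaySL2
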