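import Cfsg.Agent.Lib.Char.Counting
import Cfsg.Agent.Lib.Char.Extraspecial
import Cfsg.Agent.Lib.Char.ItoMichler
import Cfsg.Agent.Lib.Char.Table
import Cfsg.Agent.Lib.Blocks.PairTransport
import Cfsg.Agent.Lib.Classical.QuaternionClasses

/-!
Numbers of irreducible characters of degree prime to `ℓ` of small groups.
-/

set_option autoImplicit false
set_option linter.unusedSectionVars false

namespace CfsgLib.McKaySL2

open Cfsg CfsgLib.Char

universe u v

/-- The number of irreducible characters of degree prime to `ℓ`. -/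
noncomputable def pCount (ℓ : ℕ) (H : Type u) [Group H] : ℕ :=
  Nat.card {χ : IrrCharacter H // ¬ ℓ ∣ charDegree (χ : H → ℂ)}

/-- The number of irreducible characters of degree `d`. -/
noncomputable def degCount (d : ℕ) (H : Type u) [Group H] : ℕ :=
  Nat.card {χ : IrrCharacter H // charDegree (χ : H → ℂ) = d}

theorem charDegree_irrEquiv {A : Type u} {B : Type v} [Group A] [Group B] (e : A ≃* B)
    (χ : IrrCharacter A) :
    charDegree (CfsgLib.Blocks.irrEquiv e χ : B → ℂ) = charDegree (χ : A → ℂ) := by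
  unfold charDegree
  have h := CfsgLib.Blocks.irrEquiv_apply e χ 1
  rw [map_one] at h
  rw [h]

theorem pCount_congr {A : Type u} {B : Type v} [Group A] [Group B] (e : A ≃* B) (ℓ : ℕ) :
    pCount ℓ A = pCount ℓ B :=
  Nat.card_congr ((CfsgLib.Blocks.irrEquiv e).subtypeEquiv fun χ => by rw [charDegree_irrEquiv])

variable {H : Type u} [Group H] [Finite H]

theorem coe_degree (χ : IrrCharacter H) : (χ : H → ℂ) 1 = (charDegree (χ : H → ℂ) : ℂ) := by
  obtain ⟨d, -, hd⟩ := exists_nat_degree_irr χ.2
  rw [Extraspecial.charDegree_eq hd, hd]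

theorem degree_pos (χ : IrrCharacter H) : 0 < charDegree (χ : H → ℂ) := by
  refine Nat.pos_of_ne_zero fun h => irr_degree_ne_zero χ.2 ?_
  rw [coe_degree, h, Nat.cast_zero]

theorem sum_sq [Fintype (IrrCharacter H)] :
    ∑ χ : IrrCharacter H, charDegree (χ : H → ℂ) ^ 2 = Nat.card H := by
  have h := sum_sq_degree (G := H)
  have h' : ((∑ χ : IrrCharacter H, charDegree (χ : H → ℂ) ^ 2 : ℕ) : ℂ) = (Nat.card H : ℂ) := by
    rw [Nat.cast_sum, ← h]
    refine Finset.sum_congr (by ext; simp) fun χ _ => ?_
    rw [Nat.cast_pow, ← coe_degree]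
  exact_mod_cast h'

theorem degCount_one : degCount 1 H = (commutator H).index := by
  rw [← card_linear]
  refine Nat.card_congr (Equiv.subtypeEquivRight fun χ => ?_)
  rw [coe_degree, Nat.cast_eq_one]

/-- Totals over degrees `1, …, 4`. -/
theorem totals (hle : ∀ χ : IrrCharacter H, charDegree (χ : H → ℂ) ≤ 4) :
    Nat.card (ConjClasses H) = degCount 1 H + degCount 2 H + degCount 3 H + degCount 4 H ∧
      Nat.card H = degCount 1 H + 4 * degCount 2 H + 9 * degCount 3 H + 16 * degCount 4 H := by
  classical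
  have : Fintype (IrrCharacter H) := Fintype.ofFinite _
  have hN : ∀ d, degCount d H =
      (Finset.univ.filter fun χ : IrrCharacter H => charDegree (χ : H → ℂ) = d).card := fun d => by
    rw [degCount, Nat.card_eq_fintype_card, Fintype.card_subtype]
  have hmaps : ∀ χ ∈ (Finset.univ : Finset (IrrCharacter H)),
      charDegree (χ : H → ℂ) ∈ ({1, 2, 3, 4} : Finset ℕ) := fun χ _ => by
    have := hle χ
    have := degree_pos χ
    simp only [Finset.mem_insert, Finset.mem_singleton]
    omega
  constructor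
  · rw [← card_irr_eq_card_conjClasses, Nat.card_eq_fintype_card, ← Finset.card_univ,
      Finset.card_eq_sum_card_fiberwise hmaps]
    simp [Finset.sum_insert, hN, add_assoc]
  · rw [← sum_sq, ← Finset.sum_fiberwise_of_maps_to' hmaps (fun d => d ^ 2)]
    simp [Finset.sum_insert, Finset.sum_const, hN, add_assoc, mul_comm]

theorem pCount_two (hle : ∀ χ : IrrCharacter H, charDegree (χ : H → ℂ) ≤ 4) :
    pCount 2 H = degCount 1 H + degCount 3 H := by
  classical
  have : Fintype (IrrCharacter H) := Fintype.ofFinite _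
  rw [pCount, degCount, degCount, Nat.card_eq_fintype_card, Nat.card_eq_fintype_card,
    Nat.card_eq_fintype_card, Fintype.card_subtype, Fintype.card_subtype, Fintype.card_subtype,
    ← Finset.card_union_of_disjoint (Finset.disjoint_filter.2 fun χ _ h1 h2 => by omega)]
  congr 1
  ext χ
  have := hle χ
  have := degree_pos χ
  simp only [Finset.mem_filter, Finset.mem_univ, true_and, Finset.mem_union]
  omega

theorem le_four_of_card (h : Nat.card H = 24) (χ : IrrCharacter H) :
    charDegree (χ : H → ℂ) ≤ 4 := by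
  classical
  have : Fintype (IrrCharacter H) := Fintype.ofFinite _
  have h1 := Finset.single_le_sum (f := fun χ : IrrCharacter H => charDegree (χ : H → ℂ) ^ 2)
    (fun _ _ => Nat.zero_le _) (Finset.mem_univ χ)
  rw [sum_sq, h] at h1
  by_contra hc
  have : 5 ^ 2 ≤ charDegree (χ : H → ℂ) ^ 2 := Nat.pow_le_pow_left (by omega) 2
  omega

/-- A group of order 24 with commutator factor group of order 3. -/
theorem pCount_two_of_card (h : Nat.card H = 24) (hi : (commutator H).index = 3) :
    pCount 2 H = 4 := by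
  obtain ⟨-, h2⟩ := totals (le_four_of_card h)
  rw [pCount_two (le_four_of_card h)]
  rw [degCount_one, hi, h] at h2
  rw [degCount_one, hi]
  omega

/-- A group of order 24 with seven classes. -/
theorem pCount_of_card_classes (h : Nat.card H = 24) (hk : Nat.card (ConjClasses H) = 7) :
    pCount 2 H = 4 ∧ degCount 3 H = 1 := by
  obtain ⟨h1, h2⟩ := totals (le_four_of_card h)
  rw [pCount_two (le_four_of_card h)]
  rw [h] at h2
  rw [hk] at h1
  omega

theorem pCount_eq_card_classes {ℓ : ℕ} (A : Subgroup H) [A.Normal]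
    (hab : ∀ a ∈ A, ∀ b ∈ A, a * b = b * a) (hidx : ¬ ℓ ∣ A.index) :
    pCount ℓ H = Nat.card (ConjClasses H) := by
  rw [← card_irr_eq_card_conjClasses, pCount]
  exact Nat.card_congr (Equiv.subtypeUnivEquiv fun χ =>
    ItoMichler.not_dvd_of_normal_abelian A hab hidx χ)

theorem index_cyclic_quaternion {n : ℕ} [NeZero n] :
    (Subgroup.zpowers (QuaternionGroup.a 1 : QuaternionGroup n)).index = 2 := by
  have h := Subgroup.card_mul_index (Subgroup.zpowers (QuaternionGroup.a 1 : QuaternionGroup n))
  rw [Nat.card_zpowers, QuaternionGroup.orderOf_a_one, Nat.card_eq_fintype_card,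
    QuaternionGroup.card, show 4 * n = 2 * n * 2 by ring] at h
  exact Nat.eq_of_mul_eq_mul_left (Nat.mul_pos two_pos (NeZero.pos n)) h

theorem comm_zpowers {X : Type*} [Group X] (g : X) :
    ∀ a ∈ Subgroup.zpowers g, ∀ b ∈ Subgroup.zpowers g, a * b = b * a := by
  rintro _ ⟨i, rfl⟩ _ ⟨j, rfl⟩
  exact zpow_mul_comm g i j

theorem quaternion_le_two {n : ℕ} [NeZero n] (χ : IrrCharacter (QuaternionGroup n)) :
    charDegree (χ : QuaternionGroup n → ℂ) ≤ 2 := by
  have := Subgroup.normal_of_index_eq_two (index_cyclic_quaternion (n := n))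
  have h := Extraspecial.ito χ.2 (Subgroup.zpowers (QuaternionGroup.a 1 : QuaternionGroup n))
    (comm_zpowers _) (coe_degree χ)
  rw [index_cyclic_quaternion] at h
  exact Nat.le_of_dvd two_pos h

theorem pCount_two_quaternion {n : ℕ} [NeZero n] : pCount 2 (QuaternionGroup n) = 4 := by
  have hle : ∀ χ : IrrCharacter (QuaternionGroup n), charDegree (χ : QuaternionGroup n → ℂ) ≤ 4 :=
    fun χ => (quaternion_le_two χ).trans (by norm_num)
  have h0 : ∀ d, 2 < d → degCount d (QuaternionGroup n) = 0 := fun d hd => by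
    have : IsEmpty {χ : IrrCharacter (QuaternionGroup n) // charDegree (χ : QuaternionGroup n → ℂ) = d} :=
      ⟨fun χ => by have := quaternion_le_two χ.1; have := χ.2; omega⟩
    exact Nat.card_of_isEmpty
  obtain ⟨h1, h2⟩ := totals hle
  rw [CfsgLib.Classical.card_conjClasses_quaternion, h0 3 (by norm_num), h0 4 (by norm_num)] at h1
  rw [Nat.card_eq_fintype_card, QuaternionGroup.card, h0 3 (by norm_num), h0 4 (by norm_num)] at h2
  rw [pCount_two hle, h0 3 (by norm_num)]
  omega

theorem pCount_odd_quaternion {n ℓ : ℕ} [NeZero n] [hl : Fact ℓ.Prime] (hl2 : ℓ ≠ 2) :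
    pCount ℓ (QuaternionGroup n) = n + 3 := by
  have := Subgroup.normal_of_index_eq_two (index_cyclic_quaternion (n := n))
  rw [pCount_eq_card_classes (Subgroup.zpowers (QuaternionGroup.a 1 : QuaternionGroup n))
    (comm_zpowers _) ?_, CfsgLib.Classical.card_conjClasses_quaternion]
  rw [index_cyclic_quaternion]
  exact fun h => hl2 ((Nat.prime_dvd_prime_iff_eq hl.out Nat.prime_two).1 h)

end CfsgLib.McKaySL2
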