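import Cfsg.Agent.Lib.McKaySL2.Count
import Cfsg.Agent.Lib.RankOne.SLDegreeSet

/-!
Characters of `SL₂(q)`, `q` odd, of degree prime to `ℓ`.
-/

set_option autoImplicit false
set_option linter.unusedSectionVars false

namespace CfsgLib.McKaySL2

open Cfsg CfsgLib.Char CfsgLib.RankOne.SLTwo
open scoped MatrixGroups

universe u

variable {F : Type u} [Field F] [Fintype F] [DecidableEq F]

local notation "G" => Matrix.SpecialLinearGroup (Fin 2) F

theorem degCount_eq_cast (d : ℕ) :
    degCount d G = Nat.card {χ : IrrCharacter G // (χ : G → ℂ) 1 = (d : ℂ)} :=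
  Nat.card_congr (Equiv.subtypeEquivRight fun χ => by rw [coe_degree, Nat.cast_inj])

/-- The numbers of characters of each degree. -/
theorem degrees (hq : 4 ≤ Fintype.card F) (h2c : ringChar F ≠ 2) :
    degCount 1 G = 1 ∧ degCount (Fintype.card F) G = 1 ∧
      2 * degCount (Fintype.card F - 1) G = Fintype.card F - 1 ∧
      degCount ((Fintype.card F - 1) / 2) G = 2 ∧
      2 * degCount (Fintype.card F + 1) G = Fintype.card F - 3 ∧
      degCount ((Fintype.card F + 1) / 2) G = 2 := by
  have hodd : Odd (Fintype.card F) := Nat.odd_iff.2 (FiniteField.odd_card_of_char_ne_two h2c)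
  obtain ⟨hp, hm⟩ := half_cast (F := F) hodd
  refine ⟨?_, ?_, ?_, ?_, ?_, ?_⟩
  · rw [degCount_eq_cast, Nat.cast_one]
    exact card_degree_one hq
  · rw [degCount_eq_cast]
    exact card_degree_card
  · have h : ((2 * degCount (Fintype.card F - 1) G : ℕ) : ℂ) = ((Fintype.card F - 1 : ℕ) : ℂ) := by
      rw [degCount_eq_cast, Nat.cast_mul, Nat.cast_sub (by omega : 1 ≤ Fintype.card F), Nat.cast_one,
        card_degree_pred hq]
      exact_mod_cast (card_cusp_odd h2c).1
    exact_mod_cast h
  · rw [degCount_eq_cast, hm, card_degree_half_pred hq]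
    exact (card_cusp_odd h2c).2
  · have h : ((2 * degCount (Fintype.card F + 1) G : ℕ) : ℂ) = ((Fintype.card F - 3 : ℕ) : ℂ) := by
      rw [degCount_eq_cast, Nat.cast_mul, Nat.cast_add, Nat.cast_one, card_degree_succ,
        Nat.cast_sub (by omega : 3 ≤ Fintype.card F), Nat.cast_ofNat, two_mul_card_psSet, nquad_odd h2c]
      push_cast
      ring
    exact_mod_cast h
  · rw [degCount_eq_cast, hp, card_degree_half hq]
    exact card_half h2c

theorem card_total (h2c : ringChar F ≠ 2) : Nat.card (IrrCharacter G) = Fintype.card F + 4 := by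
  rw [card_irr_eq_card_conjClasses, card_classes_odd h2c]

theorem degree_cases' (χ : IrrCharacter G) :
    charDegree (χ : G → ℂ) = 1 ∨ charDegree (χ : G → ℂ) = Fintype.card F ∨
      charDegree (χ : G → ℂ) = Fintype.card F + 1 ∨
      charDegree (χ : G → ℂ) = (Fintype.card F + 1) / 2 ∨
      charDegree (χ : G → ℂ) = Fintype.card F - 1 ∨
      charDegree (χ : G → ℂ) = (Fintype.card F - 1) / 2 := by
  rcases charDegree_quot_cases (MonoidHom.id G) Function.surjective_id χ with
    h | h | h | ⟨-, h⟩ | h | ⟨-, h⟩ <;> simp [h]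

theorem pCount_add (ℓ : ℕ) (h2c : ringChar F ≠ 2) :
    pCount ℓ G + Nat.card {χ : IrrCharacter G // ℓ ∣ charDegree (χ : G → ℂ)} =
      Fintype.card F + 4 := by
  classical
  rw [pCount, ← card_total h2c, add_comm, ← Nat.card_sum, Nat.card_congr (Equiv.sumCompl _)]

theorem card_eq_two {P : IrrCharacter G → Prop} {a b : ℕ} (hab : a ≠ b)
    (h : ∀ χ, P χ ↔ charDegree (χ : G → ℂ) = a ∨ charDegree (χ : G → ℂ) = b) :
    Nat.card {χ // P χ} = degCount a G + degCount b G := by
  classical
  rw [Nat.card_congr (Equiv.subtypeEquivRight h), degCount, degCount, ← Nat.card_sum]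
  exact Nat.card_congr (subtypeOrEquiv _ _ (by
    rw [Pi.disjoint_iff]
    intro χ
    simp only [Prop.disjoint_iff, not_and]
    exact fun h1 h2 => hab (h1.symm.trans h2)))

/-- The count in the defining characteristic. -/
theorem pCount_char (p : ℕ) [hp : Fact p.Prime] [CharP F p] (hq : 4 ≤ Fintype.card F)
    (h2c : ringChar F ≠ 2) : pCount p G = Fintype.card F + 3 := by
  have hodd : Odd (Fintype.card F) := Nat.odd_iff.2 (FiniteField.odd_card_of_char_ne_two h2c)
  obtain ⟨n, -, hn⟩ := FiniteField.card F p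
  have h1 : p ∣ Fintype.card F := hn ▸ dvd_pow_self p n.pos.ne'
  have hp2 : p ≠ 2 := fun h => by
    rw [h] at h1
    obtain ⟨k, hk⟩ := hodd
    omega
  have key : ∀ χ : IrrCharacter G,
      p ∣ charDegree (χ : G → ℂ) ↔ charDegree (χ : G → ℂ) = Fintype.card F := by
    intro χ
    refine ⟨fun hd => ?_, fun h => h ▸ h1⟩
    have hno : ∀ d, d ∣ 2 * (Fintype.card F + 1) ∨ d ∣ 2 * (Fintype.card F - 1) → ¬ p ∣ d := by
      intro d hd' hpd
      rcases hd' with hd' | hd'
      · have h3 := hpd.trans hd'
        rw [mul_add, Nat.dvd_add_right (h1.mul_left 2)] at h3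
        exact hp2 ((Nat.prime_dvd_prime_iff_eq hp.out Nat.prime_two).1 (by simpa using h3))
      · have h3 := Nat.dvd_sub (h1.mul_left 2) (hpd.trans hd')
        rw [show 2 * Fintype.card F - 2 * (Fintype.card F - 1) = 2 by omega] at h3
        exact hp2 ((Nat.prime_dvd_prime_iff_eq hp.out Nat.prime_two).1 h3)
    obtain ⟨k, hk⟩ := hodd
    rcases degree_cases' χ with h | h | h | h | h | h
    · exact absurd hd (h ▸ hno 1 (Or.inl (one_dvd _)))
    · exact h
    · exact absurd hd (h ▸ hno _ (Or.inl (Dvd.intro_left 2 rfl)))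
    · refine absurd hd (h ▸ hno _ (Or.inl (Dvd.dvd.mul_left (Nat.div_dvd_of_dvd ?_) 2)))
      omega
    · exact absurd hd (h ▸ hno _ (Or.inr (Dvd.intro_left 2 rfl)))
    · refine absurd hd (h ▸ hno _ (Or.inr (Dvd.dvd.mul_left (Nat.div_dvd_of_dvd ?_) 2)))
      omega
  have h := pCount_add (F := F) p h2c
  rw [Nat.card_congr (Equiv.subtypeEquivRight key)] at h
  change pCount p G + degCount (Fintype.card F) G = _ at h
  rw [(degrees hq h2c).2.1] at h
  omega

/-- The count for a prime divisor of `q ± 1`. -/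
theorem pCount_torus {ℓ c : ℕ} [hl : Fact ℓ.Prime] (hl2 : ℓ ≠ 2) (h2c : ringChar F ≠ 2)
    (hc : c = Fintype.card F - 1 ∨ c = Fintype.card F + 1) (hd : ℓ ∣ c) (hq : 4 ≤ Fintype.card F) :
    pCount ℓ G = c / 2 + 3 := by
  have hodd : Odd (Fintype.card F) := Nat.odd_iff.2 (FiniteField.odd_card_of_char_ne_two h2c)
  obtain ⟨k, hk⟩ := hodd
  obtain ⟨-, -, hm, hmh, hp, hph⟩ := degrees hq h2c
  have hl3 : 3 ≤ ℓ := by have := hl.out.two_le; omega
  have hn : ∀ {d}, d ∣ 2 → ¬ ℓ ∣ d := fun h h' => by
    have := Nat.le_of_dvd two_pos (h'.trans h); omega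
  have hhalf : ∀ {d}, ℓ ∣ 2 * d → ℓ ∣ d := fun h =>
    (hl.out.dvd_mul.1 h).resolve_left (fun h' => hl2 ((Nat.prime_dvd_prime_iff_eq hl.out Nat.prime_two).1 h'))
  have h := pCount_add (F := F) ℓ h2c
  rcases hc with rfl | rfl
  · have hnp : ¬ ℓ ∣ Fintype.card F + 1 := fun h' => by
      have := Nat.dvd_sub h' hd
      rw [show Fintype.card F + 1 - (Fintype.card F - 1) = 2 by omega] at this
      exact hn dvd_rfl this
    have hnq : ¬ ℓ ∣ Fintype.card F := fun h' => by
      have := Nat.dvd_sub h' hd
      rw [show Fintype.card F - (Fintype.card F - 1) = 1 by omega] at this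
      exact hn (one_dvd 2) this
    rw [card_eq_two (a := Fintype.card F - 1) (b := (Fintype.card F - 1) / 2) (by omega) fun χ => ?_] at h
    · omega
    constructor
    · intro hχ
      rcases degree_cases' χ with e | e | e | e | e | e <;> rw [e] at hχ
      · exact absurd hχ (hn (one_dvd 2))
      · exact absurd hχ hnq
      · exact absurd hχ hnp
      · exact absurd (hχ.trans (Nat.div_dvd_of_dvd (by omega))) hnp
      · exact Or.inl e
      · exact Or.inr e
    · rintro (e | e) <;> rw [e]
      · exact hd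
      · exact hhalf (by rwa [Nat.mul_div_cancel' (by omega)])
  · have hnp : ¬ ℓ ∣ Fintype.card F - 1 := fun h' => by
      have := Nat.dvd_sub hd h'
      rw [show Fintype.card F + 1 - (Fintype.card F - 1) = 2 by omega] at this
      exact hn dvd_rfl this
    have hnq : ¬ ℓ ∣ Fintype.card F := fun h' => by
      have := Nat.dvd_sub hd h'
      rw [show Fintype.card F + 1 - Fintype.card F = 1 by omega] at this
      exact hn (one_dvd 2) this
    rw [card_eq_two (a := Fintype.card F + 1) (b := (Fintype.card F + 1) / 2) (by omega) fun χ => ?_] at h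
    · omega
    constructor
    · intro hχ
      rcases degree_cases' χ with e | e | e | e | e | e <;> rw [e] at hχ
      · exact absurd hχ (hn (one_dvd 2))
      · exact absurd hχ hnq
      · exact Or.inl e
      · exact Or.inr e
      · exact absurd hχ hnp
      · exact absurd (hχ.trans (Nat.div_dvd_of_dvd (by omega))) hnp
    · rintro (e | e) <;> rw [e]
      · exact hd
      · exact hhalf (by rwa [Nat.mul_div_cancel' (by omega)])

/-- Four characters of odd degree. -/
theorem pCount_two_group (hq : 4 ≤ Fintype.card F) (h2c : ringChar F ≠ 2) : pCount 2 G = 4 := by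
  have hodd : Odd (Fintype.card F) := Nat.odd_iff.2 (FiniteField.odd_card_of_char_ne_two h2c)
  obtain ⟨k, hk⟩ := hodd
  obtain ⟨h1, hc, hm, hmh, hp, hph⟩ := degrees hq h2c
  have h := pCount_add (F := F) 2 h2c
  classical
  rcases Nat.even_or_odd k with ⟨j, hj⟩ | ⟨j, hj⟩
  · have e : Nat.card {χ : IrrCharacter G // 2 ∣ charDegree (χ : G → ℂ)} =
        degCount (Fintype.card F + 1) G + (degCount (Fintype.card F - 1) G +
          degCount ((Fintype.card F - 1) / 2) G) := by
      rw [← card_eq_two (P := fun χ => charDegree (χ : G → ℂ) = Fintype.card F - 1 ∨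
          charDegree (χ : G → ℂ) = (Fintype.card F - 1) / 2) (by omega) (fun χ => Iff.rfl)]
      rw [degCount, ← Nat.card_sum]
      refine Nat.card_congr ((Equiv.subtypeEquivRight fun χ => ?_).trans (subtypeOrEquiv _ _ ?_))
      · rcases degree_cases' χ with e | e | e | e | e | e <;> rw [e] <;> omega
      · rw [Pi.disjoint_iff]
        intro χ
        simp only [Prop.disjoint_iff, not_and]
        intro h' h''
        omega
    omega
  · have e : Nat.card {χ : IrrCharacter G // 2 ∣ charDegree (χ : G → ℂ)} =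
        degCount (Fintype.card F - 1) G + (degCount (Fintype.card F + 1) G +
          degCount ((Fintype.card F + 1) / 2) G) := by
      rw [← card_eq_two (P := fun χ => charDegree (χ : G → ℂ) = Fintype.card F + 1 ∨
          charDegree (χ : G → ℂ) = (Fintype.card F + 1) / 2) (by omega) (fun χ => Iff.rfl)]
      rw [degCount, ← Nat.card_sum]
      refine Nat.card_congr ((Equiv.subtypeEquivRight fun χ => ?_).trans (subtypeOrEquiv _ _ ?_))
      · rcases degree_cases' χ with e | e | e | e | e | e <;> rw [e] <;> omega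
      · rw [Pi.disjoint_iff]
        intro χ
        simp only [Prop.disjoint_iff, not_and]
        intro h' h''
        omega
    omega

/-- `SL₂(3)`. -/
theorem pCount_three (h3 : Fintype.card F = 3) (h2c : ringChar F ≠ 2) :
    pCount 2 G = 4 ∧ pCount 3 G = 6 := by
  have hcard : Nat.card G = 24 := by
    rw [CfsgLib.Classical.card_SL_two, h3]; norm_num
  have hk : Nat.card (ConjClasses G) = 7 := by rw [card_classes_odd h2c, h3]
  obtain ⟨ha, hb⟩ := pCount_of_card_classes hcard hk
  refine ⟨ha, ?_⟩
  have h := pCount_add (F := F) 3 h2c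
  rw [Nat.card_congr (Equiv.subtypeEquivRight fun χ : IrrCharacter G =>
    (⟨fun hd => ?_, fun e => e ▸ dvd_rfl⟩ :
      3 ∣ charDegree (χ : G → ℂ) ↔ charDegree (χ : G → ℂ) = 3))] at h
  · change _ + degCount 3 G = _ at h
    omega
  · have := le_four_of_card hcard χ
    have := degree_pos χ
    omega

end CfsgLib.McKaySL2
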