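import Cfsg.Agent.Lib.McKaySL2.Count
import Cfsg.Agent.Lib.SL2.Torus
import Cfsg.Agent.Lib.SL2.SylowTwoPair
import Cfsg.Agent.Lib.Classical.QuaternionRec

/-!
The normaliser of a Sylow `ℓ`-subgroup of `SL₂(q)`, `ℓ` odd and prime to `q`.
-/

set_option autoImplicit false
set_option linter.unusedSectionVars false

namespace CfsgLib.McKaySL2

open Cfsg CfsgLib.SL2
open scoped MatrixGroups

universe u

variable {F : Type u} [Field F] [Finite F]

theorem regular_of_not_pow (p : ℕ) [Fact p.Prime] [CharP F p] {g : SL(2, F)}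
    (h : ¬ orderOf g ∣ 2 * p) : Regular g := by
  by_contra hr
  exact h (orderOf_dvd_of_pow_eq_one (pow_two_mul_char_of_not_regular hr p))

theorem exists_quaternion_normalizer (p : ℕ) [Fact p.Prime] [CharP F p] (h2 : (2 : F) ≠ 0)
    {g : SL(2, F)} (hg : Regular g) {ℓ : ℕ} [hl : Fact ℓ.Prime] (hl2 : ℓ ≠ 2) (hlp : ℓ ≠ p)
    (hdvd : ℓ ∣ Nat.card (cent g)) :
    ∃ n : ℕ, 2 * n = Nat.card (cent g) ∧ 0 < n ∧
      Nonempty (Subgroup.normalizer (cent g : Set SL(2, F)) ≃* QuaternionGroup n) := by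
  obtain ⟨hc, hn⟩ := cent_regular hg
  obtain ⟨⟨c, hcm⟩, hcg⟩ := hc.exists_generator
  have hord : orderOf c = Nat.card (cent g) :=
    (Subgroup.orderOf_mk c hcm).symm.trans (orderOf_eq_card_of_forall_mem_zpowers hcg)
  have hcreg : Regular c := regular_of_not_pow p fun h => by
    rw [hord] at h
    rcases hl.out.dvd_mul.1 (hdvd.trans h) with h' | h'
    · exact hl2 ((Nat.prime_dvd_prime_iff_eq hl.out Nat.prime_two).1 h')
    · exact hlp ((Nat.prime_dvd_prime_iff_eq hl.out Fact.out).1 h')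
  have hz : Subgroup.zpowers c = cent g := by
    refine le_antisymm (Subgroup.zpowers_le.2 hcm) fun x hx => ?_
    obtain ⟨i, hi⟩ := Subgroup.mem_zpowers_iff.1 (hcg ⟨x, hx⟩)
    exact Subgroup.mem_zpowers_iff.2 ⟨i, congrArg Subtype.val hi⟩
  have heven : 2 ∣ Nat.card (cent g) := by
    let _ := Fintype.ofFinite F
    have ho : ringChar F ≠ 2 := fun e => h2 (by
      haveI := (ringChar.charP F); rw [e] at this; exact CharTwo.two_eq_zero)
    have hodd := FiniteField.odd_card_of_char_ne_two ho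
    rcases hn with h | h <;> rw [h, Nat.card_eq_fintype_card] <;> omega
  obtain ⟨n, hn2⟩ := heven
  have hn0 : 0 < n := by
    have := Nat.card_pos (α := cent g)
    omega
  haveI : NeZero n := ⟨hn0.ne'⟩
  refine ⟨n, hn2.symm, hn0, ?_⟩
  have hcc : cent c = cent g := cent_eq_of_mem hg.nonScalar hcreg.nonScalar hcm
  obtain ⟨w, hw⟩ := exists_inverting hcreg
  have hwN : w ∈ Subgroup.normalizer (cent g : Set SL(2, F)) := by
    rw [← hcc]
    exact (mem_normalizer_cent_iff hcreg).2 (Or.inr hw)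
  have hout : w ∉ Subgroup.zpowers c := fun h => by
    obtain ⟨i, rfl⟩ := Subgroup.mem_zpowers_iff.1 h
    rw [(Commute.zpow_self c i).eq, mul_inv_cancel_right] at hw
    exact hcreg.ne_inv hw
  have hcn : c ^ n = -1 := by
    refine eq_neg_one_of_mul_self h2 ?_ ?_
    · rw [← pow_add, ← two_mul, ← hn2, ← hord, pow_orderOf_eq_one]
    · exact pow_ne_one_of_lt_orderOf hn0.ne' (by rw [hord, hn2]; omega)
  have hww : w * w = c ^ n := by
    rw [hcn]
    exact Subtype.ext (by simpa using mul_self_of_inverting hcreg hw)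
  obtain ⟨f, hf, hr⟩ := CfsgLib.Classical.exists_quaternion_hom (hord.trans hn2) hww hw hout
  have hle : f.range ≤ Subgroup.normalizer (cent g : Set SL(2, F)) := by
    rw [hr, Subgroup.closure_le]
    rintro x (rfl | rfl)
    · exact Subgroup.le_normalizer hcm
    · exact hwN
  have hcard : Nat.card f.range = Nat.card (Subgroup.normalizer (cent g : Set SL(2, F))) := by
    rw [← Nat.card_congr (MonoidHom.ofInjective hf).toEquiv, Nat.card_eq_fintype_card,
      QuaternionGroup.card, card_normalizer_cent hg, hn2]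
    ring
  exact ⟨((MonoidHom.ofInjective hf).trans
    (MulEquiv.subgroupCongr (Subgroup.eq_of_le_of_card_ge hle hcard.ge))).symm⟩

/-- The count for a torus: its order is `q - 1` or `q + 1`. -/
theorem pCount_sylow_torus (p : ℕ) [Fact p.Prime] [CharP F p] (h2 : (2 : F) ≠ 0)
    {ℓ : ℕ} [hl : Fact ℓ.Prime] (hl2 : ℓ ≠ 2) (hlp : ℓ ≠ p) (S : Sylow ℓ SL(2, F))
    (hS : ℓ ∣ Nat.card SL(2, F)) :
    ∃ c : ℕ, (c = Nat.card F - 1 ∨ c = Nat.card F + 1) ∧ ℓ ∣ c ∧ 2 ∣ c ∧
      pCount ℓ (Subgroup.normalizer ((S : Subgroup SL(2, F)) : Set SL(2, F))) = c / 2 + 3 := by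
  haveI : Nontrivial S := by
    rw [← Finite.one_lt_card_iff_nontrivial]
    exact lt_of_lt_of_le hl.out.one_lt (Nat.le_of_dvd Nat.card_pos (S.dvd_card_of_dvd_card hS))
  haveI := S.isPGroup'.center_nontrivial
  obtain ⟨z, hz⟩ := exists_ne (1 : Subgroup.center S)
  have hzreg : Regular ((z : S) : SL(2, F)) := regular_of_not_pow p fun h => by
    have h1 : ℓ ∣ orderOf ((z : S) : SL(2, F)) := by
      rw [Subgroup.orderOf_coe]
      obtain ⟨k, hk⟩ := (IsPGroup.iff_orderOf.1 S.isPGroup') (z : S)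
      rw [hk]
      refine dvd_pow_self ℓ fun h0 => hz (Subtype.ext ?_)
      rw [h0, pow_zero, orderOf_eq_one_iff] at hk
      exact hk
    rcases hl.out.dvd_mul.1 (h1.trans h) with h' | h'
    · exact hl2 ((Nat.prime_dvd_prime_iff_eq hl.out Nat.prime_two).1 h')
    · exact hlp ((Nat.prime_dvd_prime_iff_eq hl.out Fact.out).1 h')
  have hle : (S : Subgroup SL(2, F)) ≤ cent ((z : S) : SL(2, F)) := fun x hx =>
    mem_cent_iff.2 (congrArg Subtype.val (Subgroup.mem_center_iff.1 z.2 ⟨x, hx⟩).symm)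
  haveI := (cent_regular hzreg).1
  haveI : IsCyclic S := isCyclic_of_injective (Subgroup.inclusion hle) (Subgroup.inclusion_injective hle)
  obtain ⟨⟨g, hgS⟩, hgg⟩ := IsCyclic.exists_generator (α := S)
  have hzg : Subgroup.zpowers g = (S : Subgroup SL(2, F)) := by
    refine le_antisymm (Subgroup.zpowers_le.2 hgS) fun x hx => ?_
    obtain ⟨i, hi⟩ := Subgroup.mem_zpowers_iff.1 (hgg ⟨x, hx⟩)
    exact Subgroup.mem_zpowers_iff.2 ⟨i, congrArg Subtype.val hi⟩
  have hSc : ℓ ∣ orderOf g := by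
    rw [← Nat.card_zpowers, hzg]
    exact S.dvd_card_of_dvd_card hS
  have hg : Regular g := regular_of_not_pow p fun h => by
    rcases hl.out.dvd_mul.1 (hSc.trans h) with h' | h'
    · exact hl2 ((Nat.prime_dvd_prime_iff_eq hl.out Nat.prime_two).1 h')
    · exact hlp ((Nat.prime_dvd_prime_iff_eq hl.out Fact.out).1 h')
  have hN : Subgroup.normalizer ((S : Subgroup SL(2, F)) : Set SL(2, F)) =
      Subgroup.normalizer (cent g : Set SL(2, F)) := by
    ext h
    constructor
    · intro hh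
      refine (mem_normalizer_cent_iff hg).2 ?_
      refine eq_or_eq_inv_of_trace hg ?_ (trace_conj h g)
      have := (Subgroup.mem_normalizer_iff.1 hh g).1 hgS
      rw [← hzg] at this
      exact Subgroup.zpowers_le.2 (self_mem_cent g) this
    · intro hh
      have key : ∀ h ∈ Subgroup.normalizer (cent g : Set SL(2, F)), ∀ x ∈ (S : Subgroup SL(2, F)),
          h * x * h⁻¹ ∈ (S : Subgroup SL(2, F)) := by
        intro h hh x hx
        rw [← hzg] at hx ⊢
        obtain ⟨i, rfl⟩ := Subgroup.mem_zpowers_iff.1 hx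
        rw [← conj_zpow]
        rcases (mem_normalizer_cent_iff hg).1 hh with e | e <;> rw [e]
        · exact zpow_mem (Subgroup.mem_zpowers g) i
        · exact zpow_mem (inv_mem (Subgroup.mem_zpowers g)) i
      rw [Subgroup.mem_normalizer_iff]
      refine fun x => ⟨key h hh x, fun hx => ?_⟩
      have := key h⁻¹ (inv_mem hh) _ hx
      simpa [mul_assoc] using this
  have hdvd : ℓ ∣ Nat.card (cent g) := hSc.trans (orderOf_dvd_card_cent g)
  obtain ⟨n, hn, hn0, ⟨e⟩⟩ := exists_quaternion_normalizer p h2 hg hl2 hlp hdvd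
  haveI : NeZero n := ⟨hn0.ne'⟩
  refine ⟨Nat.card (cent g), (cent_regular hg).2, hdvd, ⟨n, hn.symm⟩, ?_⟩
  rw [pCount_congr ((MulEquiv.subgroupCongr hN).trans e), pCount_odd_quaternion hl2, ← hn,
    Nat.mul_div_cancel_left n two_pos]

end CfsgLib.McKaySL2
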