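import Cfsg.Agent.Lib.McKaySL2.Count
import Cfsg.Agent.Lib.SL2.SylowTwoPair

/-!
The normaliser of a Sylow `2`-subgroup of `SL₂(q)`, `q` odd: four characters of odd degree.
-/

set_option autoImplicit false
set_option linter.unusedSectionVars false

namespace CfsgLib.McKaySL2

open Cfsg CfsgLib.SL2
open scoped MatrixGroups commutatorElement

universe u

variable {F : Type u} [Field F] [Finite F]

/-- An element of odd order fixing the line of one of the pair is trivial. -/
theorem eq_one_of_fix (h2 : (2 : F) ≠ 0) {b d B : SL(2, F)} (hb : b * b = -1) (hd : d * d = -1)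
    (hbd : b * d * (b * d) = -1) (hB : Odd (orderOf B))
    (hBb : B * b * B⁻¹ = b ∨ B * b * B⁻¹ = -b)
    (hBd : B * d * B⁻¹ = d ∨ B * d * B⁻¹ = -d ∨ B * d * B⁻¹ = b * d ∨ B * d * B⁻¹ = -(b * d)) :
    B = 1 := by
  obtain ⟨k, hk⟩ := hB
  have h4 : ∀ x : SL(2, F), x ^ 4 = 1 → x = B → B = 1 := by
    intro x hx hxB
    subst hxB
    rw [← orderOf_eq_one_iff]
    refine Nat.eq_one_of_dvd_coprimes ?_ dvd_rfl (orderOf_dvd_of_pow_eq_one hx)
    rw [hk, show (4 : ℕ) = 2 ^ 2 by norm_num]
    exact Nat.Coprime.pow_right _ (Nat.coprime_two_right.2 ⟨k, rfl⟩)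
  have hgen : ∀ {x : SL(2, F)}, B ^ 2 * x = x * B ^ 2 → B * x = x * B := by
    intro x hx
    have hc : Commute ((B ^ 2) ^ (k + 1)) x := Commute.pow_left hx _
    rw [← pow_mul, show 2 * (k + 1) = orderOf B + 1 by omega, pow_succ, pow_orderOf_eq_one,
      one_mul] at hc
    exact hc
  have hsq : B ^ 2 * b = b * B ^ 2 := by
    rw [← mul_inv_eq_iff_eq_mul, show B ^ 2 * b * (B ^ 2)⁻¹ = B * (B * b * B⁻¹) * B⁻¹ by rw [pow_two]; group]
    rcases hBb with e | e
    · rw [e, e]
    · rw [e, mul_neg, neg_mul, e, neg_neg]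
  have hb1 : B * b * B⁻¹ = b := by rw [mul_inv_eq_iff_eq_mul]; exact hgen hsq
  have hd2 : B ^ 2 * d * (B ^ 2)⁻¹ = d ∨ B ^ 2 * d * (B ^ 2)⁻¹ = -d := by
    rw [show B ^ 2 * d * (B ^ 2)⁻¹ = B * (B * d * B⁻¹) * B⁻¹ by rw [pow_two]; group]
    rcases hBd with e | e | e | e
    · left; rw [e, e]
    · left; rw [e, mul_neg, neg_mul, e, neg_neg]
    · right
      rw [e, show B * (b * d) * B⁻¹ = (B * b * B⁻¹) * (B * d * B⁻¹) by group, hb1, e, ← mul_assoc,
        hb, neg_one_mul]
    · right
      rw [e, mul_neg, neg_mul, show B * (b * d) * B⁻¹ = (B * b * B⁻¹) * (B * d * B⁻¹) by group,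
        hb1, e, mul_neg, neg_neg, ← mul_assoc, hb, neg_one_mul]
  have hd4 : B ^ 4 * d = d * B ^ 4 := by
    rw [← mul_inv_eq_iff_eq_mul,
      show B ^ 4 * d * (B ^ 4)⁻¹ = B ^ 2 * (B ^ 2 * d * (B ^ 2)⁻¹) * (B ^ 2)⁻¹ by
        rw [pow_mul B 2 2, pow_two (B ^ 2)]; group]
    rcases hd2 with e | e
    · rw [e, e]
    · rw [e, mul_neg, neg_mul, e, neg_neg]
  have hd1 : B * d = d * B := hgen (by
    have hc : Commute ((B ^ 4) ^ (k + 1)) d := Commute.pow_left hd4 _
    rw [← pow_mul, show 4 * (k + 1) = 2 * orderOf B + 2 by omega, pow_add, pow_mul', pow_orderOf_eq_one,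
      one_pow, one_mul] at hc
    exact hc)
  rcases eq_one_or_neg_of_commute h2 hb hd hbd (hgen hsq) hd1 with h | h
  · exact h
  · exact h4 B (by rw [h, Even.neg_pow (by decide), one_pow]) rfl

theorem pCount_two_sylow (hodd : Odd (Nat.card F)) (P : Sylow 2 SL(2, F)) :
    pCount 2 (Subgroup.normalizer ((P : Subgroup SL(2, F)) : Set SL(2, F))) = 4 := by
  classical
  haveI : Fact (Nat.Prime 2) := ⟨Nat.prime_two⟩
  set N := Subgroup.normalizer ((P : Subgroup SL(2, F)) : Set SL(2, F)) with hNdef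
  have h2 := odd_card_two_ne_zero hodd
  obtain ⟨k, hk, ⟨e⟩⟩ := sylow_two_quaternion hodd P
  haveI : NeZero (2 ^ k) := ⟨by positivity⟩
  by_cases hself : N ≤ (P : Subgroup SL(2, F))
  · rw [pCount_congr ((MulEquiv.subgroupCongr (le_antisymm hself Subgroup.le_normalizer)).trans e),
      pCount_two_quaternion]
  obtain ⟨b, hbP, d, hdP, hb, hd, hbd, hdich⟩ := exists_sylowTwo_pair hodd P
  have hx := hdich.resolve_left fun h => hself h
  clear hdich
  have hne : (-1 : SL(2, F)) ≠ 1 := fun h => by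
    have h' := congr_fun₂ (congrArg Subtype.val h) 0 0
    simp at h'
    exact h2 (by linear_combination -h')
  have hbinv : b⁻¹ = -b := inv_eq_of_mul_eq_one_right (by rw [mul_neg, hb, neg_neg])
  have hdinv : d⁻¹ = -d := inv_eq_of_mul_eq_one_right (by rw [mul_neg, hd, neg_neg])
  have hanti : d * b = -(b * d) := by
    have h1 : (b * d)⁻¹ = -(b * d) := inv_eq_of_mul_eq_one_right (by rw [mul_neg, hbd, neg_neg])
    rwa [mul_inv_rev, hbinv, hdinv, neg_mul_neg] at h1
  have hcardP : Nat.card P = 8 := by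
    have h1 : Nat.card P = 4 * 2 ^ k := by
      rw [Nat.card_congr e.toEquiv, Nat.card_eq_fintype_card, QuaternionGroup.card]
    have hsub : (((P : Subgroup SL(2, F)) : Set SL(2, F))) ⊆
        ↑(([1, b, d, b * d, -1, -b, -d, -(b * d)] : List SL(2, F)).toFinset) := by
      intro x hxP
      obtain ⟨y, hy, hy'⟩ := hx x hxP
      simp only [List.coe_toFinset, Set.mem_setOf_eq, List.mem_cons, List.not_mem_nil, or_false]
      rcases hy with rfl | rfl <;> rcases hy' with rfl | rfl | rfl | rfl <;> simp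
    have h2' := Set.ncard_le_ncard hsub (Finset.finite_toSet _)
    rw [Set.ncard_coe_finset, ← Nat.card_coe_set_eq, SetLike.coe_sort_coe] at h2'
    have h3 := h2'.trans (List.toFinset_card_le _)
    simp only [List.length_cons, List.length_nil] at h3
    have h4 : 2 ≤ 2 ^ k := Nat.le_self_pow (by omega) 2
    omega
  have hcases : ∀ x ∈ (P : Subgroup SL(2, F)), (x = 1 ∨ x = -1) ∨ (x = b ∨ x = -b) ∨
      (x = d ∨ x = -d) ∨ (x = b * d ∨ x = -(b * d)) := by
    intro x hxP
    obtain ⟨y, hy, hy'⟩ := hx x hxP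
    rcases hy with rfl | rfl <;> rcases hy' with rfl | rfl | rfl | rfl <;> simp
  have him : ∀ B ∈ N, ∀ x ∈ (P : Subgroup SL(2, F)), x * x = -1 →
      (B * x * B⁻¹ = b ∨ B * x * B⁻¹ = -b) ∨ (B * x * B⁻¹ = d ∨ B * x * B⁻¹ = -d) ∨
        (B * x * B⁻¹ = b * d ∨ B * x * B⁻¹ = -(b * d)) := by
    intro B hB x hxP hx2
    rcases hcases _ ((Subgroup.mem_normalizer_iff.1 hB x).1 hxP) with h | h
    · exfalso
      have h1 : B * x * B⁻¹ * (B * x * B⁻¹) = -1 := by
        rw [show B * x * B⁻¹ * (B * x * B⁻¹) = B * (x * x) * B⁻¹ by group, hx2]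
        simp
      rcases h with h | h <;> rw [h] at h1 <;> simp at h1 <;> exact hne h1.symm
    · exact h
  -- no element of odd order fixes a line
  have hfixb : ∀ B ∈ N, Odd (orderOf B) → (B * b * B⁻¹ = b ∨ B * b * B⁻¹ = -b) → B = 1 := by
    intro B hB ho hf
    refine eq_one_of_fix h2 hb hd hbd ho hf ?_
    rcases him B hB d hdP hd with h | h | h
    · exfalso
      have hinj : ∀ {u w : SL(2, F)}, B * u * B⁻¹ = B * w * B⁻¹ → u = w := fun h' =>
        mul_left_cancel (mul_right_cancel h')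
      have hbne : ∀ s : SL(2, F), (s = b ∨ s = -b) → s ≠ d := by
        rintro _ hs rfl
        rcases hs with rfl | rfl
        · rw [hb] at hanti
          exact hne (by simpa using hanti)
        · rw [neg_mul, mul_neg, hb, neg_neg] at hanti
          exact hne hanti.symm
      rcases h with h | h <;> rcases hf with hf | hf
      · exact hbne b (Or.inl rfl) (hinj (hf.trans h.symm))
      · exact hbne (-b) (Or.inr rfl) (hinj (show B * (-b) * B⁻¹ = B * d * B⁻¹ by
          rw [h, mul_neg, neg_mul, hf, neg_neg]))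
      · exact hbne (-b) (Or.inr rfl) (hinj (show B * (-b) * B⁻¹ = B * d * B⁻¹ by
          rw [h, mul_neg, neg_mul, hf]))
      · exact hbne b (Or.inl rfl) (hinj (hf.trans h.symm))
    · rcases h with h | h
      · exact Or.inl h
      · exact Or.inr (Or.inl h)
    · exact Or.inr (Or.inr h)
  have hfixd : ∀ B ∈ N, Odd (orderOf B) → (B * d * B⁻¹ = d ∨ B * d * B⁻¹ = -d) → B = 1 := by
    intro B hB ho hf
    have hdb : d * b * (d * b) = -1 := by rw [hanti, neg_mul_neg, hbd]
    refine eq_one_of_fix h2 hd hb hdb ho hf ?_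
    rcases him B hB b hbP hb with h | h | h
    · rcases h with h | h
      · exact Or.inl h
      · exact Or.inr (Or.inl h)
    · exfalso
      have hinj : ∀ {u w : SL(2, F)}, B * u * B⁻¹ = B * w * B⁻¹ → u = w := fun h' =>
        mul_left_cancel (mul_right_cancel h')
      have hbne : ∀ s : SL(2, F), (s = d ∨ s = -d) → s ≠ b := by
        rintro _ hs rfl
        rcases hs with rfl | rfl
        · rw [hd] at hanti
          exact hne (by simpa using hanti)
        · rw [neg_mul, mul_neg, hd, neg_neg] at hanti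
          exact hne hanti.symm
      rcases h with h | h <;> rcases hf with hf | hf
      · exact hbne d (Or.inl rfl) (hinj (hf.trans h.symm))
      · exact hbne (-d) (Or.inr rfl) (hinj (show B * (-d) * B⁻¹ = B * b * B⁻¹ by
          rw [h, mul_neg, neg_mul, hf, neg_neg]))
      · exact hbne (-d) (Or.inr rfl) (hinj (show B * (-d) * B⁻¹ = B * b * B⁻¹ by
          rw [h, mul_neg, neg_mul, hf]))
      · exact hbne d (Or.inl rfl) (hinj (hf.trans h.symm))
    · rw [hanti, neg_neg]
      rcases h with h | h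
      · exact Or.inr (Or.inr (Or.inr h))
      · exact Or.inr (Or.inr (Or.inl h))
  -- the odd part has order at most three
  have hPN : (P : Subgroup SL(2, F)) ≤ N := Subgroup.le_normalizer
  haveI : ((P : Subgroup SL(2, F)).subgroupOf N).Normal :=
    Subgroup.normal_subgroupOf_of_le_normalizer le_rfl
  have hodd_idx : ¬ 2 ∣ ((P : Subgroup SL(2, F)).subgroupOf N).index := fun h =>
    P.not_dvd_index (h.trans (Subgroup.relIndex_dvd_index_of_le hPN))
  have hsmall : ∀ Q : Subgroup N, Odd (Nat.card Q) → Nat.card Q ≤ 3 := by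
    intro Q hQ
    let cls : Q → Fin 3 := fun B =>
      if ((B : N) : SL(2, F)) * b * ((B : N) : SL(2, F))⁻¹ = b ∨
          ((B : N) : SL(2, F)) * b * ((B : N) : SL(2, F))⁻¹ = -b then 0
      else if ((B : N) : SL(2, F)) * b * ((B : N) : SL(2, F))⁻¹ = d ∨
          ((B : N) : SL(2, F)) * b * ((B : N) : SL(2, F))⁻¹ = -d then 1
      else 2
    have hinj : Function.Injective cls := by
      intro B C h
      have hu : ∀ B : Q, ∃ x, (cls B = 0 ∧ x = b ∨ cls B = 1 ∧ x = d ∨ cls B = 2 ∧ x = b * d) ∧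
          (((B : N) : SL(2, F)) * b * ((B : N) : SL(2, F))⁻¹ = x ∨
            ((B : N) : SL(2, F)) * b * ((B : N) : SL(2, F))⁻¹ = -x) := by
        intro B
        by_cases h0 : ((B : N) : SL(2, F)) * b * ((B : N) : SL(2, F))⁻¹ = b ∨
            ((B : N) : SL(2, F)) * b * ((B : N) : SL(2, F))⁻¹ = -b
        · exact ⟨b, Or.inl ⟨if_pos h0, rfl⟩, h0⟩
        by_cases h1 : ((B : N) : SL(2, F)) * b * ((B : N) : SL(2, F))⁻¹ = d ∨
            ((B : N) : SL(2, F)) * b * ((B : N) : SL(2, F))⁻¹ = -d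
        · exact ⟨d, Or.inr (Or.inl ⟨by simp [cls, h0, h1], rfl⟩), h1⟩
        exact ⟨b * d, Or.inr (Or.inr ⟨by simp [cls, h0, h1], rfl⟩),
          ((him _ (B : N).2 b hbP hb).resolve_left h0).resolve_left h1⟩
      obtain ⟨x, hxB, hB⟩ := hu B
      obtain ⟨y, hyC, hC⟩ := hu C
      obtain rfl : x = y := by
        rw [h] at hxB
        rcases hxB with ⟨a, rfl⟩ | ⟨a, rfl⟩ | ⟨a, rfl⟩ <;>
          rcases hyC with ⟨a', rfl⟩ | ⟨a', rfl⟩ | ⟨a', rfl⟩ <;>
          first | rfl | exact absurd (a.symm.trans a') (by decide)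
      have ho : Odd (orderOf (((C⁻¹ * B : Q) : N) : SL(2, F))) := by
        rw [Subgroup.orderOf_coe, Subgroup.orderOf_coe]
        exact hQ.of_dvd_nat (orderOf_dvd_natCard _)
      have h1 := hfixb _ ((C⁻¹ * B : Q) : N).2 ho (by
        simp only [Subgroup.coe_mul, Subgroup.coe_inv]
        set U := ((B : N) : SL(2, F))
        set W := ((C : N) : SL(2, F))
        rw [show W⁻¹ * U * b * (W⁻¹ * U)⁻¹ = W⁻¹ * (U * b * U⁻¹) * W by group]
        have hW : W⁻¹ * (W * b * W⁻¹) * W = b := by group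
        rcases hB with hB | hB <;> rcases hC with hC | hC <;> rw [hB] <;> rw [hC] at hW
        · exact Or.inl hW
        · rw [mul_neg, neg_mul] at hW
          exact Or.inr (by rw [← hW, neg_neg])
        · exact Or.inr (by rw [mul_neg, neg_mul, hW])
        · exact Or.inl hW)
      have h2' : (C⁻¹ * B : Q) = 1 := Subtype.ext (Subtype.ext h1)
      exact (inv_mul_eq_one.1 h2').symm
    simpa using Nat.card_le_card_of_injective cls hinj
  have hidx1 : ((P : Subgroup SL(2, F)).subgroupOf N).index ≠ 1 := by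
    rw [ne_eq, Subgroup.index_eq_one, Subgroup.subgroupOf_eq_top]
    exact hself
  have hcardPN : Nat.card ((P : Subgroup SL(2, F)).subgroupOf N) = 8 := by
    rw [Nat.card_congr (Subgroup.subgroupOfEquivOfLe hPN).toEquiv, hcardP]
  -- the index is three
  have hidx : ((P : Subgroup SL(2, F)).subgroupOf N).index = 3 := by
    set m := ((P : Subgroup SL(2, F)).subgroupOf N).index with hm
    have hcardN : Nat.card N = 8 * m := by
      rw [← Subgroup.card_mul_index ((P : Subgroup SL(2, F)).subgroupOf N), hcardPN]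
    have hr : ∀ r a : ℕ, r.Prime → r ^ a ∣ m → r ^ a ≤ 3 := by
      intro r a hr hd'
      haveI : Fact r.Prime := ⟨hr⟩
      have hr2 : r ^ a % 2 = 1 := by
        by_contra h
        exact hodd_idx (Nat.dvd_trans (Nat.dvd_of_mod_eq_zero (by omega)) hd')
      obtain ⟨Q, hQ⟩ := Sylow.exists_subgroup_card_pow_prime r (G := N)
        (show r ^ a ∣ Nat.card N from hcardN ▸ Dvd.dvd.mul_left hd' 8)
      exact hQ ▸ hsmall Q (hQ ▸ Nat.odd_iff.2 hr2)
    have hm0 : m ≠ 0 := Subgroup.index_ne_zero_of_finite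
    have hprimes : ∀ r, r.Prime → r ∣ m → r = 3 := fun r hr' hd' => by
      have h3 := hr r 1 hr' (by rwa [pow_one])
      rw [pow_one] at h3
      have := hr'.two_le
      rcases (show r = 2 ∨ r = 3 by omega) with rfl | rfl
      · exact absurd hd' hodd_idx
      · rfl
    have hpow := Nat.eq_prime_pow_of_unique_prime_dvd hm0 fun {r} hr' hd' => hprimes r hr' hd'
    set a := m.primeFactorsList.length
    have h3 := hr 3 a Nat.prime_three (dvd_of_eq hpow.symm)
    rcases a with _ | _ | a
    · exact absurd (by simpa using hpow) hidx1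
    · simpa using hpow
    · have : 3 ^ 2 ≤ 3 ^ (a + 1 + 1) := Nat.pow_le_pow_right (by norm_num) (by omega)
      omega
  have hcardN : Nat.card N = 24 := by
    rw [← Subgroup.card_mul_index ((P : Subgroup SL(2, F)).subgroupOf N), hcardPN, hidx]
  refine pCount_two_of_card hcardN ?_
  rw [← hidx]
  congr 1
  -- the derived subgroup is the Sylow subgroup
  refine le_antisymm ?_ ?_
  · haveI : IsCyclic (N ⧸ (P : Subgroup SL(2, F)).subgroupOf N) :=
      isCyclic_of_prime_card (p := 3) (by rw [← Subgroup.index_eq_card, hidx])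
    rw [commutator_def, Subgroup.commutator_le]
    intro u _ w _
    rw [← QuotientGroup.eq_one_iff, ← QuotientGroup.mk'_apply, map_commutatorElement,
      commutatorElement_eq_one_iff_mul_comm]
    exact IsMulCommutative.is_comm.comm _ _
  · haveI : Fact (Nat.Prime 3) := ⟨Nat.prime_three⟩
    obtain ⟨B, hB⟩ := exists_prime_orderOf_dvd_card' 3 (G := N) (hcardN ▸ by norm_num)
    set K := (commutator N).map N.subtype with hK
    have hmem : ∀ u w : N, ⁅(u : SL(2, F)), (w : SL(2, F))⁆ ∈ K := fun u w =>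
      ⟨⁅u, w⁆, Subgroup.commutator_mem_commutator (Subgroup.mem_top u) (Subgroup.mem_top w), rfl⟩
    have hm1 : (-1 : SL(2, F)) ∈ K := by
      have h := hmem ⟨b, hPN hbP⟩ ⟨d, hPN hdP⟩
      rwa [commutatorElement_def, hbinv, hdinv, mul_assoc (b * d), neg_mul_neg, hbd] at h
    have hneg : ∀ {x : SL(2, F)}, -x ∈ K → x ∈ K := fun {x} hx' => by
      have := mul_mem hm1 hx'
      rwa [neg_one_mul, neg_neg] at this
    have ho : Odd (orderOf (B : SL(2, F))) := by rw [Subgroup.orderOf_coe, hB]; exact ⟨1, rfl⟩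
    have hBne : (B : SL(2, F)) ≠ 1 := fun h => by
      rw [← Subgroup.orderOf_coe, h, orderOf_one] at hB
      omega
    set β := (B : SL(2, F))
    have e1 := (him β B.2 b hbP hb).resolve_left fun h => hBne (hfixb β B.2 ho h)
    have e2 : (β * d * β⁻¹ = b ∨ β * d * β⁻¹ = -b) ∨
        (β * d * β⁻¹ = b * d ∨ β * d * β⁻¹ = -(b * d)) := by
      rcases him β B.2 d hdP hd with h | h | h
      · exact Or.inl h
      · exact absurd (hfixd β B.2 ho h) hBne
      · exact Or.inr h
    have hkb : ∀ {x}, (β * b * β⁻¹ = x ∨ β * b * β⁻¹ = -x) → x * b ∈ K := fun {x} h => by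
      have hk' := hmem B ⟨b, hPN hbP⟩
      rw [commutatorElement_def, hbinv] at hk'
      rcases h with h | h <;> rw [h] at hk'
      · rw [mul_neg] at hk'; exact hneg hk'
      · rwa [neg_mul_neg] at hk'
    have hkd : ∀ {x}, (β * d * β⁻¹ = x ∨ β * d * β⁻¹ = -x) → x * d ∈ K := fun {x} h => by
      have hk' := hmem B ⟨d, hPN hdP⟩
      rw [commutatorElement_def, hdinv] at hk'
      rcases h with h | h <;> rw [h] at hk'
      · rw [mul_neg] at hk'; exact hneg hk'
      · rwa [neg_mul_neg] at hk'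
    have hK2 : b ∈ K ∧ d ∈ K := by
      rcases e1 with h | h
      · have hbd' : b * d ∈ K := hneg (hanti ▸ hkb h)
        rcases e2 with h' | h'
        · exfalso
          apply hBne
          have hfix : β ^ 2 * b * (β ^ 2)⁻¹ = b ∨ β ^ 2 * b * (β ^ 2)⁻¹ = -b := by
            rw [show β ^ 2 * b * (β ^ 2)⁻¹ = β * (β * b * β⁻¹) * β⁻¹ by rw [pow_two]; group]
            rcases h with h | h <;> rw [h] <;> (try rw [mul_neg, neg_mul]) <;>
              rcases h' with h' | h' <;> rw [h'] <;> simp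
          have h2B := hfixb (β ^ 2) (pow_mem B.2 2) ?_ hfix
          · have h3 : β ^ 3 = 1 := by
              rw [← hB, ← Subgroup.orderOf_coe]
              exact pow_orderOf_eq_one β
            rwa [pow_succ, h2B, one_mul] at h3
          · rw [Nat.Coprime.orderOf_pow ((Nat.coprime_two_right).2 ho)]
            exact ho
        · have hb' : b ∈ K := hneg (by simpa [mul_assoc, hd] using hkd h')
          exact ⟨hb', by simpa using mul_mem (inv_mem hb') hbd'⟩
      · have hd' : d ∈ K := by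
          have := hkb h
          rw [mul_assoc, hanti, mul_neg, ← mul_assoc, hb, neg_one_mul, neg_neg] at this
          exact this
        rcases e2 with h' | h'
        · exact ⟨by simpa using mul_mem (hkd h') (inv_mem hd'), hd'⟩
        · exact ⟨hneg (by simpa [mul_assoc, hd] using hkd h'), hd'⟩
    intro x hx'
    have hxK : (x : SL(2, F)) ∈ K := by
      obtain ⟨y, hy, hy'⟩ := hx _ (Subgroup.mem_subgroupOf.1 hx')
      have hyK : y ∈ K := by
        rcases hy' with rfl | rfl | rfl | rfl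
        · exact one_mem _
        · exact hK2.1
        · exact hK2.2
        · exact mul_mem hK2.1 hK2.2
      rcases hy with e' | e' <;> rw [e']
      · exact hyK
      · rw [← neg_one_mul]
        exact mul_mem hm1 hyK
    obtain ⟨z, hz, hz'⟩ := hxK
    exact Subtype.ext hz' ▸ hz

end CfsgLib.McKaySL2
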